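import Cfsg.Agent.H215.BR.SpDefs
import Cfsg.Agent.H110.BR.PM
import Cfsg.Agent.H74.SpN
import Cfsg.Agent.LieClassical.SympCount
import Cfsg.Agent.H94.BR.SpCases

/-!
# HUB BR, the family `Sp_{2m}(2^f)`: the end

A dense subgroup of `Sp_{2m}(F)` which contains a full curve `1 + t (α v₀² + β v₀ ∧ v₁)` (`α ≠ 0`), or a full curve
`1 + t v₀ ∧ v₂ + t² e v₀²`, is large (polynomial method on `V`, resp. on the orthogonal module `V̂`).
-/

set_option autoImplicit false

namespace Cfsg.Agent.H215.BR

open Cfsg Matrix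
open Cfsg.Agent.H883.BR
open Cfsg.Agent.ClassicalGeometry.SympBasic
open Cfsg.Agent.H107.SpTr Cfsg.Agent.H107.SpConj

/-! ### root elements in invariant subspaces -/

section rootmem

universe u v w

variable {K : Type u} {V : Type v} {G : Type w} [Field K] [AddCommGroup V] [Module K V] [Group G]

/-- `a X a ∈ S` for `X ∈ S`, if `1 + t a ∈ ρ(G)` for `t = 1` and some `t ≠ 0, 1` -/
theorem axa_mem {ρ : G →* Module.End K V} {S : Submodule K (Module.End K V)} (hS : Inv (ad ρ) ⊤ S)
    {a X : Module.End K V} (ha : a * a = 0) (h1 : ∃ g : G, ρ g = 1 + a) {t : K} (ht0 : t ≠ 0) (ht1 : t ≠ 1)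
    (h2 : ∃ g : G, ρ g = 1 + t • a) (hX : X ∈ S) : a * X * a ∈ S := by
  have key : ∀ s : K, (∃ g : G, ρ g = 1 + s • a) → s • (a * X - X * a) - s ^ 2 • (a * X * a) ∈ S := by
    rintro s ⟨g, hg⟩
    have hgi : ρ g⁻¹ = 1 - s • a := by
      have e1 : ρ g⁻¹ * ρ g = 1 := by rw [← map_mul, inv_mul_cancel, map_one]
      have e0 : ρ g * (1 - s • a) = 1 := by
        rw [hg, mul_sub, mul_one, add_mul, one_mul, smul_mul_smul_comm, ha, smul_zero, add_zero, add_sub_cancel_right]
      calc ρ g⁻¹ = ρ g⁻¹ * (ρ g * (1 - s • a)) := by rw [e0, mul_one]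
        _ = 1 - s • a := by rw [← mul_assoc, e1, one_mul]
    have e2 := hS g (Subgroup.mem_top g) X hX
    rw [ad_apply, hg, hgi] at e2
    have e3 := S.sub_mem e2 hX
    have e4 : (1 + s • a) * X * (1 - s • a) - X = s • (a * X - X * a) - s ^ 2 • (a * X * a) := by
      rw [add_mul, mul_sub, mul_one, one_mul, add_mul, mul_smul_comm, mul_smul_comm, smul_mul_assoc, smul_mul_assoc,
        smul_smul, ← pow_two, smul_sub]
      abel
    rwa [e4] at e3
  have k1 := key 1 (by obtain ⟨g, hg⟩ := h1; exact ⟨g, by rw [hg, one_smul]⟩)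
  have k2 := key t h2
  have k3 := S.sub_mem (S.smul_mem t k1) k2
  have e5 : t • ((1 : K) • (a * X - X * a) - (1 : K) ^ 2 • (a * X * a)) - (t • (a * X - X * a) - t ^ 2 • (a * X * a)) =
      (t ^ 2 - t) • (a * X * a) := by
    module
  rw [e5] at k3
  have hne : t ^ 2 - t ≠ 0 := by
    have : t ^ 2 - t = t * (t - 1) := by ring
    rw [this]
    exact mul_ne_zero ht0 (sub_ne_zero.2 ht1)
  exact (S.smul_mem_iff hne).1 k3

/-- **Large subgroups from curves.** -/
theorem card_of_curve {F : Subfield K} [Finite F] [Finite G] [FiniteDimensional K V] {ρ : G →* Module.End K V}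
    {H M : Subgroup G} (hn : ∀ h ∈ H, ∀ m ∈ M, h * m * h⁻¹ ∈ M) (hD : Dns (ad ρ) H) {a b : Module.End K V} {e : ℕ}
    (he : 1 ≤ e) (he2 : e ≤ 2) (hb : e = 1 → b = 0)
    (ha : ∀ t ∈ F, ∃ m ∈ M, ρ m = 1 + t • a + t ^ 2 • b) {d : ℕ}
    (hd : ∀ S : Submodule K (Module.End K V), Inv (ad ρ) ⊤ S → a ∈ S → d ≤ Module.finrank K S) :
    Nat.choose ((Nat.card F - 1) / e + d) d ≤ Nat.card M := by
  classical
  obtain ⟨s, hs⟩ : ∃ s : Set (Module.End K V), s = {X | ∃ h ∈ H, X = ad ρ h a} := ⟨_, rfl⟩
  have hinvH : Inv (ad ρ) H (Submodule.span K s) := by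
    intro h hh X hX
    induction hX using Submodule.span_induction with
    | mem X hX =>
      rw [hs] at hX
      obtain ⟨k, hk, rfl⟩ := hX
      refine Submodule.subset_span ?_
      rw [hs]
      exact ⟨h * k, H.mul_mem hh hk, by rw [map_mul]; rfl⟩
    | zero => rw [map_zero]; exact Submodule.zero_mem _
    | add X Y _ _ h1 h2 => rw [map_add]; exact Submodule.add_mem _ h1 h2
    | smul c X _ h1 => rw [map_smul]; exact Submodule.smul_mem _ _ h1
  have hmem : a ∈ Submodule.span K s := by
    refine Submodule.subset_span ?_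
    rw [hs]
    refine ⟨1, H.one_mem, ?_⟩
    rw [map_one]
    rfl
  have hsd : ∀ X ∈ s, ∃ h ∈ H, X = ad ρ h a := by
    intro X hX
    rw [hs] at hX
    exact hX
  have h1 := hd _ (hD _ hinvH) hmem
  obtain ⟨f, hf, -, hli⟩ := Submodule.exists_fun_fin_finrank_span_eq K s
  have hli' : LinearIndependent K fun i : Fin d => f (Fin.castLE h1 i) :=
    hli.comp _ (Fin.castLE_injective h1)
  have hf' : ∀ i : Fin d, ∃ h ∈ H, f (Fin.castLE h1 i) = ad ρ h a := by
    exact fun i => hsd _ (hf (Fin.castLE h1 i))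
  choose hh hhH hhf using hf'
  have hfin : Finite (Submonoid.map ρ M.toSubmonoid) := by
    have : Finite M.toSubmonoid := inferInstanceAs (Finite M)
    exact Set.Finite.image _ (Set.toFinite _)
  have h2 := Cfsg.Agent.H110.BR.poly_method F d e he
    (fun i j => if j = 1 then f (Fin.castLE h1 i) else if j = 2 then ad ρ (hh i) b else 0) (by
      simpa using hli') (Submonoid.map ρ M.toSubmonoid) (by
      intro i t ht
      obtain ⟨m, hm, hm'⟩ := ha t ht
      refine ⟨hh i * m * (hh i)⁻¹, hn _ (hhH i) _ hm, ?_⟩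
      have e1 : ρ (hh i * m * (hh i)⁻¹) = 1 + t • ad ρ (hh i) a + t ^ 2 • ad ρ (hh i) b := by
        have e2 : ρ (hh i) * ρ (hh i)⁻¹ = 1 := by rw [← map_mul, mul_inv_cancel, map_one]
        rw [map_mul, map_mul, hm', ad_apply, ad_apply, mul_add, mul_add, mul_one, add_mul, add_mul, e2, mul_smul_comm,
          mul_smul_comm, smul_mul_assoc, smul_mul_assoc]
      rw [e1, ← hhf i]
      have h3 : e = 1 ∨ e = 2 := by omega
      rcases h3 with h3 | h3
      · subst h3
        rw [hb rfl, map_zero, smul_zero, add_zero]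
        simp
      · subst h3
        rw [Finset.sum_Icc_succ_top (by norm_num)]
        simp [add_assoc])
  refine h2.trans ?_
  have h4 : (Submonoid.map ρ M.toSubmonoid : Set (Module.End K V)) = ρ '' (M : Set G) := rfl
  have h5 : Nat.card (Submonoid.map ρ M.toSubmonoid) = Nat.card (ρ '' (M : Set G)) := rfl
  rw [h5]
  exact Nat.card_image_le (Set.toFinite _)

end rootmem

/-! ### dimensions on `V` -/

section dimV

variable {m : ℕ} {F : Type*} [Field F] {K : Type*} [Field K] [Algebra F K] [CharP K 2]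

theorem form_single (j k : Fin m ⊕ Fin m) :
    sympForm m K (Pi.single j 1) (Pi.single k 1) = if k = j.swap then 1 else 0 := by
  rcases j with i | i
  · rw [sympForm_single_inl_left, CharTwo.neg_eq, Sum.swap_inl, Pi.single_apply]
    by_cases h : k = Sum.inr i
    · rw [if_pos h, if_pos h.symm]
    · rw [if_neg h, if_neg (fun h' => h h'.symm)]
  · rw [sympForm_single_inr_left, Sum.swap_inr, Pi.single_apply]
    by_cases h : k = Sum.inl i
    · rw [if_pos h, if_pos h.symm]
    · rw [if_neg h, if_neg (fun h' => h h'.symm)]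

omit [CharP K 2] in
/-- a vector over `F` not orthogonal to `v₀` -/
theorem exists_form_ne (F : Type*) [Field F] [Algebra F K] {v0 : Vn m K} (hv0 : v0 ≠ 0) :
    ∃ u : Fin m ⊕ Fin m → F, sympForm m K v0 (emb K u) ≠ 0 := by
  by_contra hcon
  push Not at hcon
  apply hv0
  have h1 : sympBilin m K v0 = 0 := ext_emb (F := F) K fun u => hcon u
  exact eq_zero_of_forall_sympForm_right fun w => LinearMap.congr_fun h1 w

omit [CharP K 2] in
theorem sq_mul_self (u : Vn m K) : sq u * sq u = 0 := by
  refine LinearMap.ext fun x => ?_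
  rw [Module.End.mul_apply, sq_apply, sq_apply, sympForm_smul_right, sympForm_self, mul_zero, zero_smul]
  rfl

variable (K) in
/-- the elements `e_x²`, `e_x ∧ e_y` -/
noncomputable def famV : Sym2 (Fin m ⊕ Fin m) → Module.End K (Vn m K) :=
  Sym2.lift ⟨fun x y => if x = y then sq (Pi.single x 1) else wedge (Pi.single x 1) (Pi.single y 1), fun x y => by
    by_cases h : x = y
    · subst h; rfl
    · show (if x = y then _ else _) = (if y = x then _ else _)
      rw [if_neg h, if_neg (fun h' => h h'.symm), wedge_comm]⟩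

theorem famV_apply (x y j k : Fin m ⊕ Fin m) :
    famV K s(x, y) (Pi.single k.swap 1) j = if s(x, y) = s(j, k) then 1 else 0 := by
  have hk : ∀ z : Fin m ⊕ Fin m, sympForm m K (Pi.single z 1) (Pi.single k.swap 1) = if k = z then 1 else 0 := by
    intro z
    rw [form_single]
    by_cases h : k = z
    · rw [if_pos h, if_pos (by rw [h])]
    · rw [if_neg h, if_neg (fun h' => h (Sum.swap_leftInverse.injective h'))]
  rw [famV, Sym2.lift_mk]
  simp only
  by_cases hxy : x = y
  · subst hxy
    rw [if_pos rfl, sq_apply, hk, Pi.smul_apply, smul_eq_mul, Pi.single_apply]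
    by_cases h : s(x, x) = s(j, k)
    · rw [Sym2.eq_iff] at h
      have h1 : x = j ∧ x = k := by tauto
      rw [if_pos h1.2.symm, if_pos h1.1.symm, if_pos (Sym2.eq_iff.2 (Or.inl h1)), mul_one]
    · rw [if_neg h]
      rw [Sym2.eq_iff] at h
      by_cases h1 : k = x
      · have h2 : j ≠ x := fun h3 => h (Or.inl ⟨h3.symm, h1.symm⟩)
        rw [if_neg h2, mul_zero]
      · rw [if_neg h1, zero_mul]
  · rw [if_neg hxy, wedge_apply, hk, hk, Pi.add_apply, Pi.smul_apply, Pi.smul_apply, smul_eq_mul, smul_eq_mul,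
      Pi.single_apply, Pi.single_apply]
    by_cases h : s(x, y) = s(j, k)
    · rw [if_pos h]
      rw [Sym2.eq_iff] at h
      rcases h with ⟨rfl, rfl⟩ | ⟨rfl, rfl⟩
      · rw [if_pos rfl, if_pos rfl, if_neg (fun h => hxy h.symm)]; ring
      · rw [if_neg hxy, if_pos rfl, if_pos rfl]; ring
    · rw [if_neg h]
      rw [Sym2.eq_iff] at h
      push Not at h
      have h1 : (if k = y then (1 : K) else 0) * (if j = x then 1 else 0) = 0 := by
        by_cases h1 : k = y
        · rw [if_pos h1, if_neg (fun h2 => h.1 h2.symm h1.symm), mul_zero]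
        · rw [if_neg h1, zero_mul]
      have h2 : (if k = x then (1 : K) else 0) * (if j = y then 1 else 0) = 0 := by
        by_cases h1 : k = x
        · rw [if_pos h1, if_neg (fun h2 => h.2 h1.symm h2.symm), mul_zero]
        · rw [if_neg h1, zero_mul]
      rw [h1, h2, add_zero]

theorem famV_li : LinearIndependent K (famV (m := m) K) := by
  rw [Fintype.linearIndependent_iff]
  intro c hc s
  induction s using Sym2.ind with
  | _ j k =>
    have h1 := congrFun (LinearMap.congr_fun hc (Pi.single k.swap 1)) j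
    rw [LinearMap.sum_apply, Finset.sum_apply, Finset.sum_eq_single s(j, k)] at h1
    · rw [LinearMap.smul_apply, Pi.smul_apply, famV_apply, if_pos rfl, smul_eq_mul, mul_one] at h1
      exact h1
    · intro s _ hs
      induction s using Sym2.ind with
      | _ x y => rw [LinearMap.smul_apply, Pi.smul_apply, famV_apply, if_neg hs, smul_zero]
    · intro h; exact absurd (Finset.mem_univ _) h

/-- **`G`-invariant subspaces of `End V` containing `α v₀² + β v₀ ∧ v₁`, `α ≠ 0`, contain all `e_x²`, `e_x ∧ e_y`.** -/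
theorem dimV {v0 v1 : Vn m K} (hv0 : v0 ≠ 0) {α β : K} (hα : α ≠ 0)
    (hF : ∃ t : F, t ≠ 0 ∧ t ≠ 1) {S : Submodule K (Module.End K (Vn m K))}
    (hS : Inv (ad (rho (F := F) K)) ⊤ S) (hN : α • sq v0 + β • wedge v0 v1 ∈ S) :
    (2 * m + 1).choose 2 ≤ Module.finrank K S := by
  obtain ⟨t, ht0, ht1⟩ := hF
  obtain ⟨u, hu⟩ := exists_form_ne F hv0
  have hu0 : u ≠ 0 := by
    rintro rfl
    rw [emb_zero, sympForm_zero_right] at hu
    exact hu rfl
  have h1 := axa_mem hS (sq_mul_self (emb K u)) ⟨transv u 1, by rw [rho_transv, map_one, one_smul]⟩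
    (t := algebraMap F K t) (by simpa using ht0) (by
      intro h
      apply ht1
      rw [← map_one (algebraMap F K)] at h
      exact (algebraMap F K).injective h) ⟨transv u t, rho_transv u t⟩ hN
  have h2 : sq (emb K u) * (α • sq v0 + β • wedge v0 v1) * sq (emb K u) =
      (α * sympForm m K v0 (emb K u) ^ 2) • sq (emb K u) := by
    refine LinearMap.ext fun x => ?_
    simp only [Module.End.mul_apply, LinearMap.add_apply, LinearMap.smul_apply, sq_apply, wedge_apply, smul_smul]
    congr 1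
    simp only [sympForm_add_right, sympForm_smul_right, form_comm (K := K) (emb K u) v0,
      form_comm (K := K) (emb K u) v1]
    linear_combination (sympForm m K (emb K u) x * β * sympForm m K v1 (emb K u) * sympForm m K v0 (emb K u)) *
      (CharTwo.two_eq_zero : (2 : K) = 0)
  rw [h2] at h1
  have h3 : sq (emb K u) ∈ S := (S.smul_mem_iff (mul_ne_zero hα (pow_ne_zero 2 hu))).1 h1
  have h4 : ∀ w : Fin m ⊕ Fin m → F, sq (emb K w) ∈ S := by
    intro w
    by_cases hw : w = 0
    · have : sq (emb K w) = 0 := by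
        rw [hw, emb_zero]
        refine LinearMap.ext fun x => ?_
        rw [sq_apply, smul_zero]
        rfl
      rw [this]
      exact S.zero_mem
    · obtain ⟨g, hg⟩ := exists_act_eq hu0 hw
      have := hS g (Subgroup.mem_top g) _ h3
      rwa [ad_sq, rho_emb, hg] at this
  have h5 : ∀ w w' : Fin m ⊕ Fin m → F, wedge (emb K w) (emb K w') ∈ S := by
    intro w w'
    have h6 : wedge (emb K w) (emb K w') = sq (emb K (w + w')) - sq (emb K w) - sq (emb K w') := by
      refine LinearMap.ext fun x => ?_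
      rw [LinearMap.sub_apply, LinearMap.sub_apply, wedge_apply, sq_apply, sq_apply, sq_apply, emb_add,
        sympForm_add_left]
      module
    rw [h6]
    exact S.sub_mem (S.sub_mem (h4 _) (h4 _)) (h4 _)
  have h6 : Submodule.span K (Set.range (famV (m := m) K)) ≤ S := by
    rw [Submodule.span_le]
    rintro _ ⟨s, rfl⟩
    induction s using Sym2.ind with
    | _ x y =>
      rw [famV, Sym2.lift_mk]
      simp only
      by_cases hxy : x = y
      · rw [if_pos hxy, ← emb_single (F := F) K x]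
        exact h4 (Pi.single x 1)
      · rw [if_neg hxy, ← emb_single (F := F) K x, ← emb_single (F := F) K y]
        exact h5 (Pi.single x 1) (Pi.single y 1)
  have hfd : FiniteDimensional K (Module.End K (Vn m K)) := inferInstance
  have h7 : Module.finrank K (Submodule.span K (Set.range (famV (m := m) K))) ≤ Module.finrank K S :=
    Submodule.finrank_mono h6
  have h8 : Module.finrank K (Submodule.span K (Set.range (famV (m := m) K))) =
      Fintype.card (Sym2 (Fin m ⊕ Fin m)) := finrank_span_eq_card famV_li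
  rw [h8, Sym2.card, Fintype.card_sum, Fintype.card_fin, ← two_mul] at h7
  exact h7

end dimV

/-! ### dimensions on `V̂` -/

section dimVh

variable {m : ℕ} {F : Type*} [Field F] {K : Type*} [Field K] [Algebra F K] [CharP K 2]

variable (K) in
/-- the basis of `V̂` -/
def bo : Option (Fin m ⊕ Fin m) → Vn m K × K
  | none => (0, 1)
  | some j => (Pi.single j 1, 0)

variable (K) in
/-- the coordinates of `V̂` -/
def co : Option (Fin m ⊕ Fin m) → Vn m K × K → K
  | none => fun x => x.2
  | some j => fun x => x.1 j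

omit [CharP K 2] in
theorem co_bo (o x : Option (Fin m ⊕ Fin m)) : co K o (bo K x) = if o = x then 1 else 0 := by
  rcases o with _ | o <;> rcases x with _ | x
  · simp [co, bo]
  · simp [co, bo]
  · simp [co, bo]
  · simp [co, bo, Pi.single_apply]

omit [CharP K 2] in
theorem co_add (o : Option (Fin m ⊕ Fin m)) (x y : Vn m K × K) : co K o (x + y) = co K o x + co K o y := by
  rcases o with _ | o <;> rfl

omit [CharP K 2] in
theorem co_smul (o : Option (Fin m ⊕ Fin m)) (c : K) (x : Vn m K × K) : co K o (c • x) = c * co K o x := by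
  rcases o with _ | o <;> rfl

theorem form_bo (x : Option (Fin m ⊕ Fin m)) (k : Fin m ⊕ Fin m) :
    sympForm m K (bo K x).1 (Pi.single k.swap 1) = if some k = x then 1 else 0 := by
  rcases x with _ | x
  · simp [bo]
  · show sympForm m K (Pi.single x 1) (Pi.single k.swap 1) = _
    rw [form_single]
    by_cases h : k = x
    · rw [if_pos (by rw [h]), if_pos (by rw [h])]
    · rw [if_neg (fun h' => h (Sum.swap_leftInverse.injective h')), if_neg (fun h' => h (Option.some.inj h'))]

variable (K) in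
/-- the elements `b_x ∧ b_y` -/
noncomputable def famH (s : {s : Sym2 (Option (Fin m ⊕ Fin m)) // ¬ s.IsDiag}) : Module.End K (Vn m K × K) :=
  Sym2.lift ⟨fun x y => wedgeh (bo K x) (bo K y), fun _ _ => add_comm _ _⟩ s.1

theorem famH_apply {x y : Option (Fin m ⊕ Fin m)} (hxy : x ≠ y) (o : Option (Fin m ⊕ Fin m)) (k : Fin m ⊕ Fin m) :
    co K o (wedgeh (bo K x) (bo K y) (Pi.single k.swap 1, 0)) = if s(x, y) = s(o, some k) then 1 else 0 := by
  rw [wedgeh_apply, form_bo, form_bo, co_add, co_smul, co_smul, co_bo, co_bo]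
  by_cases h : s(x, y) = s(o, some k)
  · rw [if_pos h]
    rw [Sym2.eq_iff] at h
    rcases h with ⟨rfl, rfl⟩ | ⟨rfl, rfl⟩
    · rw [if_pos rfl, if_pos rfl, if_neg (fun h => hxy h.symm)]; ring
    · rw [if_neg hxy, if_pos rfl, if_pos rfl]; ring
  · rw [if_neg h]
    rw [Sym2.eq_iff] at h
    push Not at h
    have h1 : (if some k = y then (1 : K) else 0) * (if o = x then 1 else 0) = 0 := by
      by_cases h1 : some k = y
      · rw [if_pos h1, if_neg (fun h2 => h.1 h2.symm h1.symm), mul_zero]
      · rw [if_neg h1, zero_mul]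
    have h2 : (if some k = x then (1 : K) else 0) * (if o = y then 1 else 0) = 0 := by
      by_cases h1 : some k = x
      · rw [if_pos h1, if_neg (fun h2 => h.2 h1.symm h2.symm), mul_zero]
      · rw [if_neg h1, zero_mul]
    rw [h1, h2, add_zero]

theorem famH_li : LinearIndependent K (famH (m := m) K) := by
  rw [Fintype.linearIndependent_iff]
  rintro c hc ⟨s, hs⟩
  have key : ∀ (o : Option (Fin m ⊕ Fin m)) (k : Fin m ⊕ Fin m) (h : ¬ (s(o, some k)).IsDiag),
      c ⟨s(o, some k), h⟩ = 0 := by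
    intro o k h
    have h1 := congrArg (co K o) (LinearMap.congr_fun hc (Pi.single k.swap 1, 0))
    have hsum : ∀ (T : Finset {s : Sym2 (Option (Fin m ⊕ Fin m)) // ¬ s.IsDiag}),
        co K o ((∑ i ∈ T, c i • famH K i) (Pi.single k.swap 1, 0)) =
          ∑ i ∈ T, c i * (if i.1 = s(o, some k) then 1 else 0) := by
      intro T
      induction T using Finset.induction_on with
      | empty => rcases o with _ | o <;> simp [co]
      | insert i T hi ih =>
        rw [Finset.sum_insert hi, Finset.sum_insert hi, LinearMap.add_apply, co_add, ih, LinearMap.smul_apply, co_smul]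
        congr 2
        obtain ⟨i, hi'⟩ := i
        induction i using Sym2.ind with
        | _ x y =>
          rw [Sym2.mk_isDiag_iff] at hi'
          exact famH_apply hi' o k
    rw [hsum, Finset.sum_eq_single ⟨s(o, some k), h⟩] at h1
    · rw [if_pos rfl, mul_one] at h1
      rw [h1]
      rcases o with _ | o <;> rfl
    · intro i _ hi
      rw [if_neg (fun h' => hi (Subtype.ext h')), mul_zero]
    · intro h; exact absurd (Finset.mem_univ _) h
  induction s using Sym2.ind with
  | _ x y =>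
    rcases y with _ | y
    · rcases x with _ | x
      · rw [Sym2.mk_isDiag_iff] at hs; exact absurd rfl hs
      · have e : s(some x, none) = s((none : Option (Fin m ⊕ Fin m)), some x) := Sym2.eq_swap
        have h1 := key none x (by rw [← e]; exact hs)
        convert h1 using 2
        exact Subtype.ext e
    · exact key x y hs

omit [CharP K 2] in
/-- a vector over `F` orthogonal to `u`, not to `y ∉ K u` -/
theorem exists_orthF {u : Fin m ⊕ Fin m → F} (hu : u ≠ 0) {y : Vn m K} (hy : ∀ c : K, y ≠ c • emb K u) :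
    ∃ w : Fin m ⊕ Fin m → F, sympForm m F u w = 0 ∧ sympForm m K y (emb K w) ≠ 0 := by
  by_contra hcon
  push Not at hcon
  obtain ⟨x, hx⟩ : ∃ x, sympForm m F u x ≠ 0 := by
    by_contra h
    push Not at h
    exact hu (eq_zero_of_forall_sympForm_right h)
  have hx' : algebraMap F K (sympForm m F u x) ≠ 0 := by simpa using hx
  have h1 : sympBilin m K y =
      sympBilin m K ((sympForm m K y (emb K x) / algebraMap F K (sympForm m F u x)) • emb K u) := by
    refine ext_emb (F := F) K fun w => ?_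
    rw [sympBilin_apply, sympBilin_apply, sympForm_smul_left, sympForm_emb]
    have h2 := hcon (w - (sympForm m F u w / sympForm m F u x) • x) (by
      rw [sympForm_sub_right, sympForm_smul_right]
      field_simp
      ring)
    rw [sub_eq_add_neg, ← neg_smul, emb_add, emb_smul, sympForm_add_right, sympForm_smul_right, map_neg,
      map_div₀] at h2
    field_simp at h2 ⊢
    linear_combination h2
  exact hy _ (eq_of_forall_sympForm_right fun w => LinearMap.congr_fun h1 w)

omit [CharP K 2] in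
theorem wedgeh_add_right (u w w' : Vn m K × K) : wedgeh u (w + w') = wedgeh u w + wedgeh u w' := by
  refine LinearMap.ext fun x => ?_
  rw [LinearMap.add_apply, wedgeh_apply, wedgeh_apply, wedgeh_apply, Prod.fst_add, sympForm_add_left]
  module

omit [CharP K 2] in
theorem wedgeh_add_left (u u' w : Vn m K × K) : wedgeh (u + u') w = wedgeh u w + wedgeh u' w := by
  refine LinearMap.ext fun x => ?_
  rw [LinearMap.add_apply, wedgeh_apply, wedgeh_apply, wedgeh_apply, Prod.fst_add, sympForm_add_left]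
  module

omit [CharP K 2] in
theorem wedgeh_comm (u w : Vn m K × K) : wedgeh u w = wedgeh w u := add_comm _ _

omit [CharP K 2] in
/-- `a² = 0` for `a = u ∧ w`, `u ⟂ w` -/
theorem wedgeh_sq {u w : Vn m K × K} (h : sympForm m K u.1 w.1 = 0) : wedgeh u w * wedgeh u w = 0 := by
  have h' : sympForm m K w.1 u.1 = 0 := by rw [sympForm_swap, h, neg_zero]
  refine LinearMap.ext fun x => ?_
  rw [Module.End.mul_apply, wedgeh_apply u w x, map_add, map_smul, map_smul, wedgeh_apply, wedgeh_apply, h, h',
    sympForm_self, sympForm_self]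
  simp

/-- `a X a` for `a = u ∧ w`, `X = v ∧ v'` -/
theorem wedgeh_axa (u w v v' : Vn m K × K) :
    wedgeh u w * wedgeh v v' * wedgeh u w =
      (sympForm m K v.1 w.1 * sympForm m K v'.1 u.1 + sympForm m K v'.1 w.1 * sympForm m K v.1 u.1) • wedgeh u w := by
  refine LinearMap.ext fun x => ?_
  have h2 : (2 : K) = 0 := CharTwo.two_eq_zero
  simp only [Module.End.mul_apply, wedgeh_apply, Prod.fst_add, Prod.smul_fst, LinearMap.smul_apply,
    sympForm_add_right, sympForm_smul_right, form_comm (K := K) w.1 v.1, form_comm (K := K) w.1 v'.1,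
    form_comm (K := K) u.1 v.1, form_comm (K := K) u.1 v'.1]
  generalize sympForm m K v.1 w.1 = a
  generalize sympForm m K v'.1 w.1 = b
  generalize sympForm m K v.1 u.1 = c
  generalize sympForm m K v'.1 u.1 = d
  generalize sympForm m K w.1 x.1 = p
  generalize sympForm m K u.1 x.1 = r
  match_scalars
  · linear_combination (a * b * r) * h2
  · linear_combination (c * d * p) * h2

variable [PerfectRing K 2]

/-- **`G`-invariant subspaces of `End V̂` containing `v₀ ∧ v₂`, `v₀ ⟂ v₂` independent modulo the radical, have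
codimension at most one in `Λ² V̂`.** -/
theorem dimVh (hm : 2 ≤ m) {v0 v2 : Vn m K × K} (hv0 : v0.1 ≠ 0) (hv2 : ∀ c : K, v2.1 ≠ c • v0.1)
    (h02 : sympForm m K v0.1 v2.1 = 0) (hF : ∃ t : F, t ≠ 0 ∧ t ≠ 1)
    {S : Submodule K (Module.End K (Vn m K × K))} (hS : Inv (ad (rhoh (F := F) K)) ⊤ S) (hN : wedgeh v0 v2 ∈ S) :
    (2 * m + 1).choose 2 ≤ Module.finrank K S + 1 := by
  have h2 : (2 : K) = 0 := CharTwo.two_eq_zero
  obtain ⟨t, ht0, ht1⟩ := hF
  obtain ⟨u, hu⟩ := exists_form_ne F hv0
  have hu0 : u ≠ 0 := by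
    rintro rfl
    rw [emb_zero, sympForm_zero_right] at hu
    exact hu rfl
  -- `y = N u` is not a multiple of `u`
  obtain ⟨y, hy⟩ : ∃ y, y = sympForm m K v2.1 (emb K u) • v0.1 + sympForm m K v0.1 (emb K u) • v2.1 := ⟨_, rfl⟩
  have hy0 : y ≠ 0 := by
    intro h
    apply hv2 (-((sympForm m K v0.1 (emb K u))⁻¹ * sympForm m K v2.1 (emb K u)))
    rw [hy] at h
    calc v2.1 = (sympForm m K v0.1 (emb K u))⁻¹ • (sympForm m K v0.1 (emb K u) • v2.1) := by
          rw [smul_smul, inv_mul_cancel₀ hu, one_smul]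
      _ = (sympForm m K v0.1 (emb K u))⁻¹ • (-(sympForm m K v2.1 (emb K u) • v0.1)) := by
          rw [neg_eq_of_add_eq_zero_right h]
      _ = _ := by module
  have hyu : ∀ c : K, y ≠ c • emb K u := by
    intro c hc
    have hc0 : c ≠ 0 := by
      rintro rfl
      rw [zero_smul] at hc
      exact hy0 hc
    have h3 : sympForm m K v0.1 y = 0 := by
      rw [hy, sympForm_add_right, sympForm_smul_right, sympForm_smul_right, sympForm_self, h02]
      ring
    rw [hc, sympForm_smul_right] at h3
    exact mul_ne_zero hc0 hu h3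
  obtain ⟨w, huw, hw⟩ := exists_orthF hu0 hyu
  have hwu : ∀ c : F, w ≠ c • u := by
    rintro c rfl
    apply hw
    rw [emb_smul, sympForm_smul_right, hy, sympForm_add_left, sympForm_smul_left, sympForm_smul_left]
    linear_combination (algebraMap F K c * sympForm m K v2.1 (emb K u) * sympForm m K v0.1 (emb K u)) * h2
  -- `a = u ∧ w` is in `S`
  have ha : wedgeh (lift K (emb K u)) (lift K (emb K w)) ∈ S := by
    have h3 : sympForm m K (lift K (emb K u)).1 (lift K (emb K w)).1 = 0 := by
      show sympForm m K (emb K u) (emb K w) = 0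
      rw [sympForm_emb, huw, map_zero]
    have h4 := axa_mem hS (wedgeh_sq h3) ⟨Z u w 1, by rw [rhoh_Z huw, map_one, one_smul]⟩
      (t := algebraMap F K t) (by simpa using ht0) (by
        intro h
        apply ht1
        rw [← map_one (algebraMap F K)] at h
        exact (algebraMap F K).injective h) ⟨Z u w t, rhoh_Z huw t⟩ hN
    rw [wedgeh_axa] at h4
    refine (S.smul_mem_iff ?_).1 h4
    intro h5
    apply hw
    rw [hy, sympForm_add_left, sympForm_smul_left, sympForm_smul_left]
    have e1 : (lift K (emb K u)).1 = emb K u := rfl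
    have e2 : (lift K (emb K w)).1 = emb K w := rfl
    rw [e1, e2] at h5
    linear_combination h5
  -- all `u' ∧ w'`
  have hall : ∀ u' w' : Fin m ⊕ Fin m → F, u' ≠ 0 → (∀ c : F, w' ≠ c • u') → sympForm m F u' w' = 0 →
      wedgeh (lift K (emb K u')) (lift K (emb K w')) ∈ S := by
    intro u' w' hu' hw' huw'
    obtain ⟨g, hg1, hg2⟩ := exists_act_pair hu0 huw hwu hu' huw' hw'
    have h3 := hS g (Subgroup.mem_top g) _ ha
    rwa [ad_wedgeh, rhoh_lift, rhoh_lift, rho_emb, rho_emb, hg1, hg2] at h3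
  -- basis vectors
  have hinj := (algebraMap F K).injective
  have hQ : ∀ j : Fin m ⊕ Fin m, Q0 (Pi.single j 1 : Vn m K) = 0 := by
    intro j
    rw [Q0]
    refine Finset.sum_eq_zero fun i _ => ?_
    rcases j with j | j <;> simp
  have hl : ∀ j : Fin m ⊕ Fin m, lift K (emb K (Pi.single j (1 : F))) = bo K (some j) := by
    intro j
    rw [emb_single, lift, hQ, map_zero]
    rfl
  have hform : ∀ j k : Fin m ⊕ Fin m, k ≠ j.swap → sympForm m F (Pi.single j 1) (Pi.single k 1) = 0 := by
    intro j k h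
    apply hinj
    rw [← sympForm_emb, emb_single, emb_single, form_single, if_neg h, map_zero]
  have hform1 : ∀ j : Fin m ⊕ Fin m, algebraMap F K (sympForm m F (Pi.single j 1) (Pi.single j.swap 1)) = 1 := by
    intro j
    rw [← sympForm_emb, emb_single, emb_single, form_single, if_pos rfl]
  have hsw : ∀ j : Fin m ⊕ Fin m, j ≠ j.swap := by rintro (j | j) h <;> simp at h
  have hne : ∀ (j : Fin m ⊕ Fin m), (Pi.single j 1 : Fin m ⊕ Fin m → F) ≠ 0 := by
    intro j h
    have := congrFun h j
    simp at this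
  -- (A)
  have hA : ∀ j k : Fin m ⊕ Fin m, k ≠ j → k ≠ j.swap → wedgeh (bo K (some j)) (bo K (some k)) ∈ S := by
    intro j k h1 h3
    rw [← hl, ← hl]
    refine hall _ _ (hne j) (fun c hc => ?_) (hform j k h3)
    have := congrFun hc k
    rw [Pi.single_eq_same, Pi.smul_apply, Pi.single_eq_of_ne h1, smul_zero] at this
    exact one_ne_zero this
  -- (B)
  have hB : ∀ j : Fin m ⊕ Fin m, wedgeh (bo K (some j)) (bo K none) ∈ S := by
    intro j
    obtain ⟨k, hk1, hk2⟩ : ∃ k : Fin m ⊕ Fin m, k ≠ j ∧ k ≠ j.swap := by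
      rcases j with j | j
      · obtain ⟨i, hi⟩ : ∃ i : Fin m, i ≠ j := by
          have : Nontrivial (Fin m) := Fin.nontrivial_iff_two_le.2 hm
          exact exists_ne j
        exact ⟨Sum.inl i, by simpa using hi, by simp⟩
      · obtain ⟨i, hi⟩ : ∃ i : Fin m, i ≠ j := by
          have : Nontrivial (Fin m) := Fin.nontrivial_iff_two_le.2 hm
          exact exists_ne j
        exact ⟨Sum.inl i, by simp, by simpa using hi⟩
    have hk3 : k.swap ≠ j := fun h => hk2 (by rw [← h, Sum.swap_swap])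
    have hk4 : k.swap ≠ j.swap := fun h => hk1 (Sum.swap_leftInverse.injective h)
    have h3 := hall (Pi.single j 1) (Pi.single k 1 + Pi.single k.swap 1) (hne j) (by
      intro c hc
      have := congrFun hc k
      rw [Pi.add_apply, Pi.single_eq_same, Pi.smul_apply, Pi.single_eq_of_ne hk1, smul_zero,
        Pi.single_eq_of_ne (hsw k), add_zero] at this
      exact one_ne_zero this) (by
      rw [sympForm_add_right, hform _ _ hk2, hform _ _ hk4, add_zero])
    have h4 : lift K (emb K (Pi.single k 1 + Pi.single k.swap 1 : Fin m ⊕ Fin m → F)) = bo K (some k) + bo K (some k.swap) + bo K none := by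
      rw [lift, emb_add, emb_single, emb_single, Q0_add, hQ, hQ, form_single, if_pos rfl, add_zero, zero_add, map_one]
      refine Prod.ext ?_ ?_
      · simp [bo]
      · simp [bo]
    rw [h4, hl, wedgeh_add_right, wedgeh_add_right] at h3
    have h5 := S.sub_mem h3 (S.add_mem (hA j k hk1 hk2) (hA j k.swap hk3 hk4))
    rwa [add_sub_cancel_left] at h5
  -- (C)
  obtain ⟨i0⟩ : Nonempty (Fin m) := ⟨⟨0, by omega⟩⟩
  have hC : ∀ i : Fin m, i ≠ i0 → wedgeh (bo K (some (Sum.inl i))) (bo K (some (Sum.inr i))) +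
      wedgeh (bo K (some (Sum.inl i0))) (bo K (some (Sum.inr i0))) ∈ S := by
    intro i hi
    have h3 := hall (Pi.single (Sum.inl i) 1 + Pi.single (Sum.inl i0) 1)
      (Pi.single (Sum.inr i) 1 + Pi.single (Sum.inr i0) 1) (by
      intro h
      have := congrFun h (Sum.inl i)
      rw [Pi.add_apply, Pi.single_eq_same, Pi.single_eq_of_ne (by simpa using hi), add_zero] at this
      exact one_ne_zero this) (by
      intro c hc
      have := congrFun hc (Sum.inr i)
      rw [Pi.add_apply, Pi.single_eq_same, Pi.smul_apply, Pi.add_apply, Pi.single_eq_of_ne (by simpa using hi),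
        Pi.single_eq_of_ne (by simp), Pi.single_eq_of_ne (by simp), add_zero, add_zero, smul_zero] at this
      exact one_ne_zero this) (by
      apply hinj
      rw [sympForm_add_left, sympForm_add_right, sympForm_add_right, map_add, map_add, map_add,
        hform (Sum.inl i) (Sum.inr i0) (by simpa using fun h => hi h.symm),
        hform (Sum.inl i0) (Sum.inr i) (by simpa using hi)]
      have e1 := hform1 (Sum.inl i)
      have e2 := hform1 (Sum.inl i0)
      rw [Sum.swap_inl] at e1 e2
      rw [e1, e2, map_zero]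
      linear_combination h2)
    have h4 : lift K (emb K (Pi.single (Sum.inl i) 1 + Pi.single (Sum.inl i0) 1 : Fin m ⊕ Fin m → F)) =
        bo K (some (Sum.inl i)) + bo K (some (Sum.inl i0)) := by
      rw [lift, emb_add, emb_single, emb_single, Q0_add, hQ, hQ, form_single, if_neg (by simp), add_zero, add_zero,
        map_zero]
      refine Prod.ext ?_ ?_
      · simp [bo]
      · simp [bo]
    have h5 : lift K (emb K (Pi.single (Sum.inr i) 1 + Pi.single (Sum.inr i0) 1 : Fin m ⊕ Fin m → F)) =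
        bo K (some (Sum.inr i)) + bo K (some (Sum.inr i0)) := by
      rw [lift, emb_add, emb_single, emb_single, Q0_add, hQ, hQ, form_single, if_neg (by simp), add_zero, add_zero,
        map_zero]
      refine Prod.ext ?_ ?_
      · simp [bo]
      · simp [bo]
    rw [h4, h5, wedgeh_add_right, wedgeh_add_left, wedgeh_add_left] at h3
    have h6 := S.sub_mem h3 (S.add_mem (hA (Sum.inl i0) (Sum.inr i) (by simp) (by simpa using hi))
      (hA (Sum.inl i) (Sum.inr i0) (by simp) (by simpa using fun h => hi h.symm)))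
    convert h6 using 1
    abel
  -- everything
  obtain ⟨P, hP⟩ : ∃ P, P = wedgeh (bo K (some (Sum.inl i0 : Fin m ⊕ Fin m))) (bo K (some (Sum.inr i0))) := ⟨_, rfl⟩
  rw [← hP] at hC
  have hle : Submodule.span K (Set.range (famH (m := m) K)) ≤ S ⊔ Submodule.span K {P} := by
    have hS1 : S ≤ S ⊔ Submodule.span K {P} := le_sup_left
    have hP1 : P ∈ S ⊔ Submodule.span K {P} := (le_sup_right : _ ≤ S ⊔ _) (Submodule.mem_span_singleton_self P)
    have hD : ∀ i : Fin m, wedgeh (bo K (some (Sum.inl i))) (bo K (some (Sum.inr i))) ∈ S ⊔ Submodule.span K {P} := by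
      intro i
      by_cases hi : i = i0
      · rw [hi, ← hP]; exact hP1
      · have h3 := Submodule.sub_mem _ (hS1 (hC i hi)) hP1
        rwa [add_sub_cancel_right] at h3
    rw [Submodule.span_le]
    rintro _ ⟨⟨s, hs⟩, rfl⟩
    induction s using Sym2.ind with
    | _ x y =>
      rw [Sym2.mk_isDiag_iff] at hs
      show wedgeh (bo K x) (bo K y) ∈ S ⊔ Submodule.span K {P}
      rcases x with _ | x <;> rcases y with _ | y
      · exact absurd rfl hs
      · rw [wedgeh_comm]; exact hS1 (hB y)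
      · exact hS1 (hB x)
      · have hxy : y ≠ x := fun h => hs (by rw [h])
        by_cases hsw : y = x.swap
        · rcases x with x | x
          · rw [hsw]; exact hD x
          · rw [hsw, wedgeh_comm]; exact hD x
        · exact hS1 (hA x y hxy hsw)
  have hfd : FiniteDimensional K (Module.End K (Vn m K × K)) := inferInstance
  have h7 : Module.finrank K (Submodule.span K (Set.range (famH (m := m) K))) ≤
      Module.finrank K (S ⊔ Submodule.span K {P} : Submodule K _) := Submodule.finrank_mono hle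
  have h8 : Module.finrank K (Submodule.span K (Set.range (famH (m := m) K))) =
      Fintype.card {s : Sym2 (Option (Fin m ⊕ Fin m)) // ¬ s.IsDiag} := finrank_span_eq_card famH_li
  rw [h8, Sym2.card_subtype_not_diag, Fintype.card_option, Fintype.card_sum, Fintype.card_fin, ← two_mul] at h7
  have h9 := Submodule.finrank_add_le_finrank_add_finrank S (Submodule.span K {P})
  have h10 : Module.finrank K (Submodule.span K {P}) ≤ 1 := by
    refine (finrank_span_le_card ({P} : Set (Module.End K (Vn m K × K)))).trans ?_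
    simp
  omega

end dimVh

/-! ### the count -/

section count

variable {m : ℕ} {F : Type*} [Field F] [Fintype F]

theorem card_le (m : ℕ) : Nat.card (Matrix.symplecticGroup (Fin m) F) ≤ Nat.card F ^ ((2 * m + 1).choose 2) := by
  rw [LieClassical.SympCount.card_symplecticGroup, ← Nat.card_eq_fintype_card]
  have h1 : ∏ i ∈ Finset.range m, (Nat.card F ^ (2 * (i + 1)) - 1) ≤
      ∏ i ∈ Finset.range m, Nat.card F ^ (2 * (i + 1)) :=
    Finset.prod_le_prod' fun i _ => Nat.sub_le _ _
  have h2 : ∏ i ∈ Finset.range m, Nat.card F ^ (2 * (i + 1)) = Nat.card F ^ (m * (m + 1)) := by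
    rw [Finset.prod_pow_eq_pow_sum]
    congr 1
    rw [← Finset.mul_sum, Finset.sum_add_distrib, Finset.sum_const, Finset.card_range, smul_eq_mul, mul_one]
    have h3 := Finset.sum_range_id_mul_two m
    rcases m with _ | m
    · simp
    · rw [Nat.add_sub_cancel] at h3
      nlinarith
  have h3 : (2 * m + 1).choose 2 = m ^ 2 + m * (m + 1) := by
    rw [Nat.choose_two_right, Nat.add_sub_cancel]
    have : (2 * m + 1) * (2 * m) = 2 * (m ^ 2 + m * (m + 1)) := by ring
    rw [this, Nat.mul_div_cancel_left _ (by norm_num)]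
  rw [h3, pow_add]
  calc Nat.card F ^ m ^ 2 * ∏ i ∈ Finset.range m, (Nat.card F ^ (2 * (i + 1)) - 1)
      ≤ Nat.card F ^ m ^ 2 * ∏ i ∈ Finset.range m, Nat.card F ^ (2 * (i + 1)) := Nat.mul_le_mul_left _ h1
    _ = _ := by rw [h2]

theorem index_ge (hm : 2 ≤ m) (hq : 4 ≤ Nat.card F) {H : Subgroup (Matrix.symplecticGroup (Fin m) F)} (hne : H ≠ ⊤) :
    Nat.card F ^ 3 ≤ H.index := by
  obtain ⟨q, hq'⟩ : ∃ q, q = Nat.card F := ⟨_, rfl⟩
  have hB := Cfsg.Agent.H74.Psp.symp_sympBilin (F := F) m
  have hbij := Cfsg.Agent.H74.Psp.toSp_bijective (F := F) m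
  have hV : Nat.card (Fin m ⊕ Fin m → F) = Nat.card F ^ (2 * m) := by
    rw [Nat.card_fun, Nat.card_sum, Nat.card_fin, two_mul]
  have h2 := Cfsg.Agent.H74.Psp.min_index hB (Cfsg.Agent.H74.Psp.exists_not_Tv m hne) hm hV (by omega) (by omega)
  rw [Subgroup.index_map_of_bijective hbij, hV, ← hq'] at h2
  rw [← hq'] at hq ⊢
  have h3 : q ^ 4 ≤ q ^ (2 * m) := Nat.pow_le_pow_right (by omega) (by omega)
  by_contra hlt
  push Not at hlt
  have h4 : H.index * (q - 1) ≤ (q ^ 3 - 1) * (q - 1) := Nat.mul_le_mul_right _ (by omega)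
  have h5 : (q ^ 3 - 1) * (q - 1) + q ^ 3 + q = q ^ 4 + 1 := by
    obtain ⟨k, rfl⟩ : ∃ k, q = k + 1 := ⟨q - 1, by omega⟩
    have h6 : (k + 1) ^ 3 - 1 = k ^ 3 + 3 * k ^ 2 + 3 * k := by
      have : (k + 1) ^ 3 = k ^ 3 + 3 * k ^ 2 + 3 * k + 1 := by ring
      omega
    rw [h6, Nat.add_sub_cancel]
    ring
  have h7 : 4 ^ 3 ≤ q ^ 3 := Nat.pow_le_pow_left hq 3
  omega

/-- **a large subgroup is everything** -/
theorem eq_top_of_card (hm : 2 ≤ m) {d : ℕ} (hd : d + 1 = (2 * m + 1).choose 2)
    (hq : 2 ^ d * d.factorial + 4 ≤ Nat.card F) {M : Subgroup (Matrix.symplecticGroup (Fin m) F)}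
    (hM : Nat.choose ((Nat.card F - 1) / 2 + d) d ≤ Nat.card M) : M = ⊤ := by
  by_contra hne
  have h1 := index_ge hm (by omega) hne
  have h2 := card_le (F := F) m
  rw [← hd, ← M.card_mul_index] at h2
  obtain ⟨q, hq'⟩ : ∃ q, q = Nat.card F := ⟨_, rfl⟩
  rw [← hq'] at h1 h2 hM hq
  -- `q ^ d ≤ 2 ^ d * d! * |M|`
  have h3 : q ^ d ≤ 2 ^ d * (d.factorial * Nat.card M) := by
    have h4 : ((((q - 1) / 2 + d) + 1 - d : ℕ) : ℚ) ^ d / d.factorial ≤ (((q - 1) / 2 + d).choose d : ℕ) :=
      Nat.pow_le_choose (α := ℚ) d ((q - 1) / 2 + d)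
    have h5 : ((q - 1) / 2 + d) + 1 - d = (q - 1) / 2 + 1 := by omega
    rw [h5] at h4
    have h6 : (0 : ℚ) < d.factorial := by exact_mod_cast Nat.factorial_pos d
    rw [div_le_iff₀ h6] at h4
    have h7 : ((q - 1) / 2 + 1) ^ d ≤ ((q - 1) / 2 + d).choose d * d.factorial := by exact_mod_cast h4
    calc q ^ d ≤ (2 * ((q - 1) / 2 + 1)) ^ d := Nat.pow_le_pow_left (by omega) d
      _ = 2 ^ d * ((q - 1) / 2 + 1) ^ d := mul_pow _ _ _
      _ ≤ 2 ^ d * (((q - 1) / 2 + d).choose d * d.factorial) := Nat.mul_le_mul_left _ h7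
      _ ≤ 2 ^ d * (Nat.card M * d.factorial) := Nat.mul_le_mul_left _ (Nat.mul_le_mul_right _ hM)
      _ = _ := by ring
  have h8 : q ^ d * q ^ 3 ≤ (2 ^ d * d.factorial) * (q ^ d * q) := by
    calc q ^ d * q ^ 3 ≤ (2 ^ d * (d.factorial * Nat.card M)) * M.index := Nat.mul_le_mul h3 h1
      _ = (2 ^ d * d.factorial) * (Nat.card M * M.index) := by ring
      _ ≤ (2 ^ d * d.factorial) * (q ^ (d + 1)) := Nat.mul_le_mul_left _ h2
      _ = _ := by rw [pow_succ]
  have hq0 : 0 < q := by omega
  have h9 : q ^ 2 ≤ 2 ^ d * d.factorial := by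
    have h10 : (q ^ d * q) * q ^ 2 ≤ (q ^ d * q) * (2 ^ d * d.factorial) := by
      calc (q ^ d * q) * q ^ 2 = q ^ d * q ^ 3 := by ring
        _ ≤ _ := h8
        _ = _ := by ring
    exact Nat.le_of_mul_le_mul_left h10 (by positivity)
  nlinarith

end count

/-- **The end of the family `Sp_{2m}(2^f)`.** -/
theorem sp_end (m : ℕ) (hm : 2 ≤ m) : ∃ q₀ : ℕ, ∀ (F : Type) [Field F] [Fintype F] (K : Type) [Field K] [Algebra F K]
    [CharP K 2] [PerfectRing K 2], q₀ ≤ Fintype.card F → ∀ H M : Subgroup (Matrix.symplecticGroup (Fin m) F),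
    (∀ h ∈ H, ∀ g ∈ M, h * g * h⁻¹ ∈ M) → Dns (ad (rho K)) H → Dns (ad (rhoh K)) H →
    ((∃ (v0 v1 : Vn m K) (α β : K), v0 ≠ 0 ∧ α ≠ 0 ∧
        ∀ t : F, ∃ g ∈ M, rho K g = 1 + algebraMap F K t • (α • sq v0 + β • wedge v0 v1)) ∨
      (∃ (v0 v2 : Vn m K) (e : K), v0 ≠ 0 ∧ (∀ c : K, v2 ≠ c • v0) ∧ sympForm m K v0 v2 = 0 ∧
        ∀ t : F, ∃ g ∈ M, rho K g = 1 + algebraMap F K t • wedge v0 v2 + (algebraMap F K t ^ 2 * e) • sq v0)) →
    M = ⊤ := by
  obtain ⟨d, hd⟩ : ∃ d, d + 1 = (2 * m + 1).choose 2 :=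
    ⟨(2 * m + 1).choose 2 - 1, Nat.sub_add_cancel (Nat.choose_pos (by omega))⟩
  refine ⟨2 ^ d * d.factorial + 4, ?_⟩
  intro F _ _ K _ _ _ _ hq H M hn hD hDh hcase
  rw [← Nat.card_eq_fintype_card] at hq
  refine eq_top_of_card hm hd hq ?_
  have hFt : ∃ t : F, t ≠ 0 ∧ t ≠ 1 := by
    classical
    by_contra hcon
    push Not at hcon
    have h1 : (Finset.univ : Finset F) ⊆ {0, 1} := by
      intro t _
      by_cases h : t = 0
      · simp [h]
      · simp [hcon t h]
    have h2 := Finset.card_le_card h1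
    rw [Finset.card_univ, ← Nat.card_eq_fintype_card] at h2
    have h3 := Finset.card_le_two (a := (0 : F)) (b := 1)
    omega
  have hfin : Finite (fr F K) := Finite.of_equiv F (algebraMap F K).rangeRestrictFieldEquiv.toEquiv
  have hcard : Nat.card (fr F K) = Nat.card F := Nat.card_congr (algebraMap F K).rangeRestrictFieldEquiv.symm.toEquiv
  have hfG : Finite (Matrix.symplecticGroup (Fin m) F) := inferInstance
  rcases hcase with ⟨v0, v1, α, β, hv0, hα, h⟩ | ⟨v0, v2, e, hv0, hv2, h02, h⟩
  · have h1 := card_of_curve (F := fr F K) (ρ := rho K) hn hD (a := α • sq v0 + β • wedge v0 v1) (b := 0) le_rfl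
      one_le_two (fun _ => rfl) (by
        rintro _ ⟨t, rfl⟩
        obtain ⟨g, hg, hg'⟩ := h t
        exact ⟨g, hg, by rw [hg', smul_zero, add_zero]⟩) (d := d + 1) (by
        intro S hS hN
        rw [hd]
        exact dimV hv0 hα hFt hS hN)
    rw [hcard, Nat.div_one] at h1
    refine le_trans ?_ h1
    calc ((Nat.card F - 1) / 2 + d).choose d ≤ (Nat.card F - 1 + d).choose d :=
          Nat.choose_le_choose _ (by have := Nat.div_le_self (Nat.card F - 1) 2; omega)
      _ = (Nat.card F - 1 + d).choose (Nat.card F - 1) := (Nat.choose_symm_add).symm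
      _ ≤ (Nat.card F - 1 + (d + 1)).choose (Nat.card F - 1) := Nat.choose_le_choose _ (by omega)
      _ = _ := Nat.choose_symm_add
  · have h1 := card_of_curve (F := fr F K) (ρ := rhoh K) hn hDh
      (a := wedgeh (v0, rt K (Q0 v0)) (v2, rt K e + rt K (Q0 v2))) (b := e • sqh (v0, rt K (Q0 v0))) one_le_two
      le_rfl (fun h => absurd h (by norm_num)) (by
        rintro _ ⟨t, rfl⟩
        obtain ⟨g, hg, hg'⟩ := h t
        exact ⟨g, hg, by rw [rhoh_of_rho h02 hg', smul_smul]⟩) (d := d) (by
        intro S hS hN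
        have h2 := dimVh hm (v0 := (v0, rt K (Q0 v0))) (v2 := (v2, rt K e + rt K (Q0 v2))) hv0 hv2 h02 hFt hS hN
        omega)
    rwa [hcard] at h1

/-- the same in the form of `H94.BR.CaseI`, `H94.BR.CaseII` -/
theorem sp_end_cases (m : ℕ) (hm : 2 ≤ m) : ∃ q₀ : ℕ, ∀ (F : Type) [Field F] [Fintype F] (K : Type) [Field K]
    [Algebra F K] [CharP K 2] [PerfectRing K 2], q₀ ≤ Fintype.card F →
    ∀ H M : Subgroup (Matrix.symplecticGroup (Fin m) F), (∀ h ∈ H, ∀ g ∈ M, h * g * h⁻¹ ∈ M) → Dns (ad (rho K)) H →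
    Dns (ad (rhoh K)) H → (H94.BR.CaseI (sympBilin m K) (rho K) (fr F K) M ∨
      H94.BR.CaseII (sympBilin m K) (rho K) (fr F K) M) → M = ⊤ := by
  obtain ⟨q₀, h⟩ := sp_end m hm
  refine ⟨q₀, ?_⟩
  intro F _ _ K _ _ _ _ hq H M hn hD hDh hc
  refine h F K hq H M hn hD hDh ?_
  rcases hc with ⟨v0, v1, a, b, ha, hv0, -, hc⟩ | ⟨v0, v2, e, hv0, hv2, h02, hc⟩
  · exact Or.inl ⟨v0, v1, a, b, hv0, ha, fun t => hc _ ⟨t, rfl⟩⟩
  · exact Or.inr ⟨v0, v2, e, hv0, fun c hc' => hv2 ⟨c, hc'⟩, h02, fun t => hc _ ⟨t, rfl⟩⟩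

end Cfsg.Agent.H215.BR
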